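import Mathlib.AlgebraicGeometry.ValuativeCriterion
import Mathlib.AlgebraicGeometry.ResidueField
import Mathlib.RingTheory.Valuation.ValuationSubring

/-!
Morphisms out of spectra of valuation rings: restriction to a subfield, composite valuations.
-/

universe u

open CategoryTheory AlgebraicGeometry IsLocalRing

set_option backward.isDefEq.respectTransparency false

namespace Groth.ValCritAux

theorem exists_fac_stalk {R : CommRingCat.{u}} [IsLocalRing R] {X : Scheme.{u}} (f : Spec R ⟶ X)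
    {x : X} (h : f (closedPoint R) = x) :
    ∃ a : X.presheaf.stalk x ⟶ R, Spec.map a ≫ X.fromSpecStalk x = f := by
  subst h
  exact ⟨_, Scheme.Spec_stalkClosedPointTo_fromSpecStalk f⟩

theorem stalk_hom_ext {R : CommRingCat.{u}} {X : Scheme.{u}} {x : X} {a b : X.presheaf.stalk x ⟶ R}
    (e : Spec.map a ≫ X.fromSpecStalk x = Spec.map b ≫ X.fromSpecStalk x) : a = b :=
  Spec.map_injective ((cancel_mono _).mp e)

/-- Two morphisms from a local scheme agreeing at the closed point and after an injective ring map are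
equal. -/
theorem eq_of_closedPoint {R : Type u} [CommRing R] [IsLocalRing R] {S : Type u} [CommRing S]
    (ι : R →+* S) (hι : Function.Injective ι) {X : Scheme.{u}}
    {f g : Spec (CommRingCat.of R) ⟶ X} (h : f (closedPoint R) = g (closedPoint R))
    (e : Spec.map (CommRingCat.ofHom ι) ≫ f = Spec.map (CommRingCat.ofHom ι) ≫ g) : f = g := by
  obtain ⟨a, ha⟩ := exists_fac_stalk (R := CommRingCat.of R) f h
  obtain ⟨b, hb⟩ := exists_fac_stalk (R := CommRingCat.of R) g rfl
  refine ha.symm.trans (Eq.trans ?_ hb)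
  have h' : a ≫ CommRingCat.ofHom ι = b ≫ CommRingCat.ofHom ι := stalk_hom_ext <| by
    rw [Spec.map_comp, Spec.map_comp, Category.assoc, Category.assoc]
    exact (congrArg _ ha).trans (e.trans (congrArg _ hb).symm)
  refine congrArg (fun c => Spec.map c ≫ X.fromSpecStalk _) (CommRingCat.hom_ext (RingHom.ext fun t => ?_))
  exact hι (congr($h' t))

theorem map_closedPoint {R S : Type u} [CommRing R] [CommRing S] [IsLocalRing R] [IsLocalRing S]
    (φ : R →+* S) [IsLocalHom φ] :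
    Spec.map (CommRingCat.ofHom φ) (closedPoint S) = closedPoint R :=
  comap_closedPoint φ

theorem comp_closedPoint {R S : Type u} [CommRing R] [CommRing S] [IsLocalRing R] [IsLocalRing S]
    (φ : R →+* S) [IsLocalHom φ] {X : Scheme.{u}} (f : Spec (CommRingCat.of R) ⟶ X) :
    (Spec.map (CommRingCat.ofHom φ) ≫ f) (closedPoint S) = f (closedPoint R) := by
  rw [Scheme.Hom.comp_apply, map_closedPoint]

theorem generic_specializes {K : Type u} [Field K] {R : Type u} [CommRing R] [IsLocalRing R]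
    (φ : R →+* K) {X : Scheme.{u}} (f : Spec (CommRingCat.of R) ⟶ X) :
    (Spec.map (CommRingCat.ofHom φ) ≫ f) (closedPoint K) ⤳ f (closedPoint R) := by
  rw [Scheme.Hom.comp_apply]
  exact (specializes_closedPoint _).map f.continuous

section Subfield

variable {K : Type u} [Field K] (R : ValuationSubring K) {k : Type u} [Field k] (g : k →+* K)

theorem isLocalHom_restrict (ρ : ↥(R.comap g) →+* ↥R)
    (hρ : ∀ x : ↥(R.comap g), ((ρ x : ↥R) : K) = g (x : k)) : IsLocalHom ρ := by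
  refine ⟨fun x hx => ?_⟩
  obtain ⟨v, hv⟩ := hx.exists_right_inv
  have h1 : g (x : k) * ((v : ↥R) : K) = 1 := by
    rw [← hρ]
    exact congrArg Subtype.val hv
  have hx0 : (x : k) ≠ 0 := fun h0 => by rw [h0, map_zero, zero_mul] at h1; exact zero_ne_one h1
  have hinv : ((x : k)⁻¹) ∈ R.comap g := by
    rw [ValuationSubring.mem_comap, map_inv₀, inv_eq_of_mul_eq_one_right h1]
    exact v.2
  exact IsUnit.of_mul_eq_one (⟨(x : k)⁻¹, hinv⟩ : ↥(R.comap g)) (Subtype.ext (mul_inv_cancel₀ hx0))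

theorem restrict_injective (ρ : ↥(R.comap g) →+* ↥R)
    (hρ : ∀ x : ↥(R.comap g), ((ρ x : ↥R) : K) = g (x : k)) : Function.Injective ρ := fun a b e =>
  Subtype.ext (g.injective (by rw [← hρ, ← hρ, e]))

/-- The inclusion of the trace of a valuation ring in a subfield. -/
def restrictHom : ↥(R.comap g) →+* ↥R :=
  (g.comp (R.comap g).subtype).codRestrict R.toSubring fun x => x.2

theorem restrictHom_apply (x : ↥(R.comap g)) : ((restrictHom R g x : ↥R) : K) = g (x : k) := rfl

end Subfield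

/-- A morphism from a valuation ring factors through the trace on the residue field of the image of
the generic point. -/
theorem existsUnique_factor {X Y : Scheme.{u}} (f : Y ⟶ X)
    (K : Type u) [Field K] (R : ValuationSubring K)
    (i : Spec (CommRingCat.of K) ⟶ Y) (φ : Spec (CommRingCat.of ↥R) ⟶ X)
    (w : Spec.map (CommRingCat.ofHom R.subtype) ≫ φ = i ≫ f)
    (y : Y) (g : Y.residueField y ⟶ CommRingCat.of K) (hg : Spec.map g ≫ Y.fromSpecResidueField y = i)
    (ρ : ↥(R.comap g.hom) →+* ↥R)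
    (hρ : ∀ x : ↥(R.comap g.hom), ((ρ x : ↥R) : K) = g.hom (x : ↑(Y.residueField y))) :
    ∃! φ' : Spec (CommRingCat.of ↥(R.comap g.hom)) ⟶ X,
      Spec.map (CommRingCat.ofHom ρ) ≫ φ' = φ ∧
      Spec.map (CommRingCat.ofHom (R.comap g.hom).subtype) ≫ φ' = Y.fromSpecResidueField y ≫ f := by
  have := isLocalHom_restrict R g.hom ρ hρ
  have hinj := restrict_injective R g.hom ρ hρ
  have huniq : ∀ φ₁ φ₂ : Spec (CommRingCat.of ↥(R.comap g.hom)) ⟶ X,
      Spec.map (CommRingCat.ofHom ρ) ≫ φ₁ = φ → Spec.map (CommRingCat.ofHom ρ) ≫ φ₂ = φ → φ₁ = φ₂ :=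
    fun φ₁ φ₂ h₁ h₂ => eq_of_closedPoint ρ hinj
      (by rw [← comp_closedPoint ρ φ₁, h₁, ← h₂, comp_closedPoint ρ φ₂]) (h₁.trans h₂.symm)
  obtain ⟨a, ha⟩ := exists_fac_stalk (R := CommRingCat.of ↥R) φ (x := φ (closedPoint ↥R)) rfl
  have hsp : f y ⤳ φ (closedPoint ↥R) := by
    have h1 := generic_specializes (R.subtype) φ
    rwa [w, ← hg, Category.assoc, Scheme.Hom.comp_apply, Scheme.Hom.comp_apply,
      Scheme.fromSpecResidueField_apply] at h1
  let b := X.presheaf.stalkSpecializes hsp ≫ f.stalkMap y ≫ Y.residue y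
  have hb : Spec.map b ≫ X.fromSpecStalk _ = Y.fromSpecResidueField y ≫ f := by
    rw [Scheme.fromSpecResidueField, Category.assoc, ← Scheme.SpecMap_stalkMap_fromSpecStalk,
      ← Scheme.SpecMap_stalkSpecializes_fromSpecStalk hsp]
    simp_rw [← Spec.map_comp_assoc]
    rfl
  have he : a ≫ CommRingCat.ofHom R.subtype = b ≫ g := by
    refine stalk_hom_ext ?_
    rw [Spec.map_comp, Spec.map_comp, Category.assoc, Category.assoc, ha, hb, w, ← hg, Category.assoc]
  have hmem : ∀ t, b.hom t ∈ R.comap g.hom := fun t => by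
    rw [ValuationSubring.mem_comap]
    exact (congr($he t)) ▸ (a.hom t).2
  let ψ : X.presheaf.stalk (φ (closedPoint ↥R)) ⟶ CommRingCat.of ↥(R.comap g.hom) :=
    CommRingCat.ofHom (b.hom.codRestrict (R.comap g.hom).toSubring hmem)
  refine ⟨Spec.map ψ ≫ X.fromSpecStalk _, ⟨?_, ?_⟩, fun φ' h' => huniq _ _ h'.1 ?_⟩
  · rw [← Spec.map_comp_assoc, show ψ ≫ CommRingCat.ofHom ρ = a from CommRingCat.hom_ext
      (RingHom.ext fun t => Subtype.ext ((hρ _).trans (congr($he t)).symm)), ha]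
  · rw [← Spec.map_comp_assoc]
    exact hb
  · rw [← Spec.map_comp_assoc, show ψ ≫ CommRingCat.ofHom ρ = a from CommRingCat.hom_ext
      (RingHom.ext fun t => Subtype.ext ((hρ _).trans (congr($he t)).symm)), ha]

/-- Gluing along a composite valuation. -/
theorem existsUnique_glue {X Y : Scheme.{u}} (f : Y ⟶ X)
    (K : Type u) [Field K] (R R' : ValuationSubring K) (hRR' : R ≤ R')
    (ι : ↥R →+* ↥R') (hι : ∀ x : ↥R, ((ι x : ↥R') : K) = (x : K))
    (i : Spec (CommRingCat.of K) ⟶ Y) (φ : Spec (CommRingCat.of ↥R) ⟶ X)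
    (w : Spec.map (CommRingCat.ofHom R.subtype) ≫ φ = i ≫ f)
    (g : Spec (CommRingCat.of ↥R') ⟶ Y) (hg₁ : Spec.map (CommRingCat.ofHom R'.subtype) ≫ g = i)
    (Rt : ValuationSubring (IsLocalRing.ResidueField ↥R')) (σ : ↥R →+* ↥Rt) (hσs : Function.Surjective σ)
    (hσ : ∀ x : ↥R, ((σ x : ↥Rt) : IsLocalRing.ResidueField ↥R') = IsLocalRing.residue ↥R' (ι x))
    (ht : Spec (CommRingCat.of ↥Rt) ⟶ Y)
    (hht₁ : Spec.map (CommRingCat.ofHom Rt.subtype) ≫ ht =
      Spec.map (CommRingCat.ofHom (IsLocalRing.residue ↥R')) ≫ g)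
    (hht₂ : ht ≫ f = Spec.map (CommRingCat.ofHom σ) ≫ φ) :
    ∃! h : Spec (CommRingCat.of ↥R) ⟶ Y, Spec.map (CommRingCat.ofHom R.subtype) ≫ h = i ∧ h ≫ f = φ ∧
      Spec.map (CommRingCat.ofHom ι) ≫ h = g ∧ Spec.map (CommRingCat.ofHom σ) ≫ h = ht := by
  have : IsLocalHom σ := IsLocalHom.of_surjective σ hσs
  have huniq : ∀ h₁ h₂ : Spec (CommRingCat.of ↥R) ⟶ Y, h₁ (closedPoint ↥R) = h₂ (closedPoint ↥R) →
      Spec.map (CommRingCat.ofHom R.subtype) ≫ h₁ = Spec.map (CommRingCat.ofHom R.subtype) ≫ h₂ →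
      h₁ = h₂ :=
    fun h₁ h₂ => eq_of_closedPoint R.subtype R.subtype_injective
  obtain ⟨a, ha⟩ := exists_fac_stalk (R := CommRingCat.of ↥Rt) ht (x := ht (closedPoint ↥Rt)) rfl
  obtain ⟨a', ha'⟩ := exists_fac_stalk (R := CommRingCat.of ↥R') g (x := g (closedPoint ↥R')) rfl
  have hsp : g (closedPoint ↥R') ⤳ ht (closedPoint ↥Rt) := by
    have h1 := generic_specializes Rt.subtype ht
    rwa [hht₁, comp_closedPoint] at h1
  let b := Y.presheaf.stalkSpecializes hsp ≫ a'
  have hb : Spec.map b ≫ Y.fromSpecStalk _ = g := by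
    rw [Spec.map_comp_assoc, Scheme.SpecMap_stalkSpecializes_fromSpecStalk, ha']
  have he : a ≫ CommRingCat.ofHom Rt.subtype = b ≫ CommRingCat.ofHom (IsLocalRing.residue ↥R') := by
    refine stalk_hom_ext ?_
    rw [Spec.map_comp, Spec.map_comp, Category.assoc, Category.assoc, ha, hb, hht₁]
  have hmem : ∀ t, (R'.subtype.comp b.hom) t ∈ R := fun t => by
    obtain ⟨r, hr⟩ := hσs (a.hom t)
    have h2 : IsLocalRing.residue ↥R' (b.hom t - ι r) = 0 := by
      have h3 : ((a.hom t : ↥Rt) : IsLocalRing.ResidueField ↥R') =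
          IsLocalRing.residue ↥R' (b.hom t) := congr($he t)
      rw [map_sub, ← h3, ← hr, hσ, sub_self]
    have h4 : ((b.hom t - ι r : ↥R') : K) ∈ R := by
      by_contra hne
      have h5 := (R.mem_or_inv_mem _).resolve_left hne
      rw [IsLocalRing.residue_eq_zero_iff, IsLocalRing.mem_maximalIdeal, mem_nonunits_iff] at h2
      have h0 : ((b.hom t - ι r : ↥R') : K) ≠ 0 := fun h0 => hne (by rw [h0]; exact R.zero_mem)
      exact h2 (IsUnit.of_mul_eq_one ⟨_, hRR' h5⟩ (Subtype.ext (mul_inv_cancel₀ h0)))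
    have h6 : ((b.hom t : ↥R') : K) = ((b.hom t - ι r : ↥R') : K) + (r : K) := by
      rw [← hι r]
      exact (congrArg R'.subtype (sub_add_cancel (b.hom t) (ι r))).symm.trans (map_add R'.subtype _ _)
    change ((b.hom t : ↥R') : K) ∈ R
    rw [h6]
    exact R.add_mem _ _ h4 r.2
  let c : Y.presheaf.stalk (ht (closedPoint ↥Rt)) ⟶ CommRingCat.of ↥R :=
    CommRingCat.ofHom ((R'.subtype.comp b.hom).codRestrict R.toSubring hmem)
  have hcι : c ≫ CommRingCat.ofHom ι = b :=
    CommRingCat.hom_ext (RingHom.ext fun t => Subtype.ext (hι _))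
  have hcσ : c ≫ CommRingCat.ofHom σ = a := CommRingCat.hom_ext (RingHom.ext fun t => Subtype.ext (by
    refine (hσ _).trans ((congrArg (IsLocalRing.residue ↥R') ?_).trans (congr($he t)).symm)
    exact congr($hcι t)))
  set h := Spec.map c ≫ Y.fromSpecStalk (ht (closedPoint ↥Rt))
  have h3 : Spec.map (CommRingCat.ofHom ι) ≫ h = g := by rw [← Spec.map_comp_assoc, hcι, hb]
  have h4 : Spec.map (CommRingCat.ofHom σ) ≫ h = ht := by rw [← Spec.map_comp_assoc, hcσ, ha]
  have hsub : CommRingCat.ofHom R.subtype = CommRingCat.ofHom ι ≫ CommRingCat.ofHom R'.subtype :=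
    CommRingCat.hom_ext (RingHom.ext fun x => (hι x).symm)
  have h1 : Spec.map (CommRingCat.ofHom R.subtype) ≫ h = i := by
    rw [hsub, Spec.map_comp, Category.assoc, h3, hg₁]
  refine ⟨h, ⟨h1, eq_of_closedPoint R.subtype R.subtype_injective ?_ ?_, h3, h4⟩,
    fun h' hh => huniq _ _ ?_ (hh.1.trans h1.symm)⟩
  · rw [← comp_closedPoint σ (h ≫ f), ← Category.assoc, h4, hht₂, comp_closedPoint]
  · rw [← Category.assoc, h1, w]
  · rw [← comp_closedPoint σ h', hh.2.2.2, ← comp_closedPoint σ h, h4]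

end Groth.ValCritAux
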