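import Groth.Agent.SchemeMorphisms.ValCrit.Basic
import Groth.Agent.Limits.DVRPoints
import Mathlib.AlgebraicGeometry.Morphisms.Proper

/-!
Refined valuative criteria along a dominant morphism.
-/

universe u

open CategoryTheory CategoryTheory.Limits AlgebraicGeometry IsLocalRing

set_option backward.isDefEq.respectTransparency false

namespace Groth.ValCritAux

theorem exists_comap_eq {κ k : Type u} [Field κ] [Field k] (g : κ →+* k) (R₀ : ValuationSubring κ) :
    ∃ R₁ : ValuationSubring k, R₁.comap g = R₀ := by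
  obtain ⟨A, hA, hloc⟩ := IsLocalRing.exists_factor_valuationRing (g.comp R₀.subtype)
  refine ⟨A, le_antisymm (fun x hx => ?_) fun x hx => hA ⟨x, hx⟩⟩
  by_contra hne
  have hinv := (R₀.mem_or_inv_mem x).resolve_left hne
  have hx0 : x ≠ 0 := fun h0 => hne (h0 ▸ R₀.zero_mem)
  have hu : IsUnit ((g.comp R₀.subtype).codRestrict A.toSubring hA ⟨x⁻¹, hinv⟩) := by
    refine IsUnit.of_mul_eq_one (⟨g x, hx⟩ : A) (Subtype.ext ?_)
    change g x⁻¹ * g x = 1
    rw [← map_mul, inv_mul_cancel₀ hx0, map_one]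
  obtain ⟨v, hv⟩ := ((hloc.map_nonunit _ hu)).exists_right_inv
  refine hne ?_
  have hvx : ((v : ↥R₀) : κ) = x := by
    have h1 : x⁻¹ * (v : κ) = 1 := congrArg Subtype.val hv
    calc ((v : ↥R₀) : κ) = (x * x⁻¹) * v := by rw [mul_inv_cancel₀ hx0, one_mul]
      _ = x := by rw [mul_assoc, h1, mul_one]
  exact hvx ▸ v.2

section Composite

variable {K : Type u} [Field K] (V : ValuationSubring K)
  (R₁ : ValuationSubring (IsLocalRing.ResidueField ↥V))

/-- The composite of two valuation rings. -/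
def composite : ValuationSubring K :=
  ValuationSubring.ofSubring ((R₁.toSubring.comap (IsLocalRing.residue ↥V)).map V.subtype) fun x => by
    simp only [Subring.mem_map, Subring.mem_comap]
    by_cases hx : x ∈ V
    · rcases R₁.mem_or_inv_mem (IsLocalRing.residue ↥V ⟨x, hx⟩) with h | h
      · exact Or.inl ⟨⟨x, hx⟩, h, rfl⟩
      · by_cases hu : IsUnit (⟨x, hx⟩ : ↥V)
        · obtain ⟨u, hu'⟩ := hu
          refine Or.inr ⟨↑u⁻¹, ?_, ?_⟩
          · change IsLocalRing.residue ↥V ↑u⁻¹ ∈ R₁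
            rwa [map_units_inv, hu']
          · change ((↑u⁻¹ : ↥V) : K) = x⁻¹
            refine eq_inv_of_mul_eq_one_left ?_
            have := congrArg Subtype.val u.inv_mul
            rw [hu'] at this
            exact this
        · refine Or.inl ⟨⟨x, hx⟩, ?_, rfl⟩
          change IsLocalRing.residue ↥V ⟨x, hx⟩ ∈ R₁
          rw [(IsLocalRing.residue_eq_zero_iff _).mpr ((IsLocalRing.mem_maximalIdeal _).mpr hu)]
          exact R₁.zero_mem
    · have hx' := (V.mem_or_inv_mem x).resolve_left hx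
      refine Or.inr ⟨⟨x⁻¹, hx'⟩, ?_, rfl⟩
      change IsLocalRing.residue ↥V ⟨x⁻¹, hx'⟩ ∈ R₁
      rw [(IsLocalRing.residue_eq_zero_iff _).mpr ((IsLocalRing.mem_maximalIdeal _).mpr fun hu => ?_)]
      · exact R₁.zero_mem
      · obtain ⟨v, hv⟩ := hu.exists_right_inv
        have hx0 : x ≠ 0 := fun h0 => hx (h0 ▸ V.zero_mem)
        have h1 : x⁻¹ * (v : K) = 1 := congrArg Subtype.val hv
        have : (v : K) = x := by
          calc ((v : ↥V) : K) = (x * x⁻¹) * v := by rw [mul_inv_cancel₀ hx0, one_mul]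
            _ = x := by rw [mul_assoc, h1, mul_one]
        exact hx (this ▸ v.2)

theorem mem_composite {x : K} :
    x ∈ composite V R₁ ↔ ∃ hx : x ∈ V, IsLocalRing.residue ↥V ⟨x, hx⟩ ∈ R₁ := by
  change x ∈ (R₁.toSubring.comap (IsLocalRing.residue ↥V)).map V.subtype ↔ _
  rw [Subring.mem_map]
  constructor
  · rintro ⟨v, hv, rfl⟩
    exact ⟨v.2, hv⟩
  · rintro ⟨hx, h⟩
    exact ⟨⟨x, hx⟩, h, rfl⟩

theorem composite_le : composite V R₁ ≤ V := fun _ hx => ((mem_composite V R₁).mp hx).1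

/-- The inclusion of the composite. -/
def compIncl : ↥(composite V R₁) →+* ↥V :=
  (composite V R₁).subtype.codRestrict V.toSubring fun x => composite_le V R₁ x.2

/-- The projection of the composite. -/
noncomputable def compProj : ↥(composite V R₁) →+* ↥R₁ :=
  ((IsLocalRing.residue ↥V).comp (compIncl V R₁)).codRestrict R₁.toSubring fun x =>
    ((mem_composite V R₁).mp x.2).2

theorem compProj_surjective : Function.Surjective (compProj V R₁) := fun r => by
  obtain ⟨v, hv⟩ := IsLocalRing.residue_surjective (r : IsLocalRing.ResidueField ↥V)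
  refine ⟨⟨v, (mem_composite V R₁).mpr ⟨v.2, ?_⟩⟩, Subtype.ext hv⟩
  change IsLocalRing.residue ↥V v ∈ R₁
  rw [hv]
  exact r.2

end Composite

variable {X Y Z : Scheme.{u}} (h : Z ⟶ Y) (f : Y ⟶ X)

/-- A valuation ring of `κ(z)` centred at `y` with a prolongation of `R₀` to its residue field. -/
structure Test (y : Y) (R₀ : ValuationSubring ↑(Y.residueField y)) where
  /-- the point of `Z` -/
  z : Z
  /-- the valuation ring centred at `y` -/
  V : ValuationSubring ↑(Z.residueField z)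
  /-- its morphism to `Y` -/
  e : Spec (CommRingCat.of ↥V) ⟶ Y
  /-- the residue extension -/
  g₁ : Y.residueField y ⟶ CommRingCat.of (IsLocalRing.ResidueField ↥V)
  /-- the prolongation -/
  R₁ : ValuationSubring (IsLocalRing.ResidueField ↥V)
  hR₁ : R₁.comap g₁.hom = R₀
  he : Spec.map (CommRingCat.ofHom V.subtype) ≫ e = Z.fromSpecResidueField z ≫ h
  hg₁ : Spec.map (CommRingCat.ofHom (IsLocalRing.residue ↥V)) ≫ e =
    Spec.map g₁ ≫ Y.fromSpecResidueField y

theorem exists_test [QuasiCompact h] (hd : DenseRange h.base) (y : Y)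
    (R₀ : ValuationSubring ↑(Y.residueField y)) : Nonempty (Test h y R₀) := by
  obtain ⟨z, hz⟩ := Groth.Limits.exists_specializes_of_denseRange h hd y
  let a : Y.presheaf.stalk y ⟶ Z.residueField z :=
    Y.presheaf.stalkSpecializes hz ≫ h.stalkMap z ≫ Z.residue z
  obtain ⟨V, hV, hloc⟩ := IsLocalRing.exists_factor_valuationRing a.hom
  let a' : ↑(Y.presheaf.stalk y) →+* ↥V := a.hom.codRestrict V.toSubring hV
  have : IsLocalHom a' := hloc
  let g₁ : Y.residueField y ⟶ CommRingCat.of (IsLocalRing.ResidueField ↥V) :=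
    CommRingCat.ofHom (IsLocalRing.ResidueField.map a')
  obtain ⟨R₁, hR₁⟩ := exists_comap_eq g₁.hom R₀
  refine ⟨⟨z, V, Spec.map (CommRingCat.ofHom a') ≫ Y.fromSpecStalk y, g₁, R₁, hR₁, ?_, ?_⟩⟩
  · rw [← Spec.map_comp_assoc, show CommRingCat.ofHom a' ≫ CommRingCat.ofHom V.subtype = a from rfl,
      Scheme.fromSpecResidueField, Category.assoc, ← Scheme.SpecMap_stalkMap_fromSpecStalk,
      ← Scheme.SpecMap_stalkSpecializes_fromSpecStalk hz]
    simp_rw [a, Spec.map_comp, Category.assoc]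
  · rw [← Spec.map_comp_assoc, Scheme.fromSpecResidueField, ← Spec.map_comp_assoc]
    rfl

namespace Test

variable {h} {y : Y} {R₀ : ValuationSubring ↑(Y.residueField y)} (T : Test h y R₀)

/-- The extension map `R₀ → R₁`. -/
noncomputable def ρ₁ : ↥R₀ →+* ↥T.R₁ :=
  (T.g₁.hom.comp R₀.subtype).codRestrict T.R₁.toSubring fun x => by
    have h1 : (x : ↑(Y.residueField y)) ∈ T.R₁.comap T.g₁.hom := by rw [T.hR₁]; exact x.2
    exact h1

theorem ρ₁_isLocalHom : IsLocalHom T.ρ₁ := by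
  obtain ⟨z, V, e, g₁, R₁, hR₁, he, hg₁⟩ := T
  subst hR₁
  exact isLocalHom_restrict R₁ g₁.hom _ fun _ => rfl

theorem ρ₁_injective : Function.Injective T.ρ₁ := fun _ _ e =>
  Subtype.ext (T.g₁.hom.injective (congrArg Subtype.val e))

theorem sub_ρ₁ (P : Spec (CommRingCat.of ↥R₀) ⟶ X) :
    Spec.map (CommRingCat.ofHom T.R₁.subtype) ≫ Spec.map (CommRingCat.ofHom T.ρ₁) ≫ P =
      Spec.map T.g₁ ≫ Spec.map (CommRingCat.ofHom R₀.subtype) ≫ P := by
  rw [← Spec.map_comp_assoc, ← Spec.map_comp_assoc]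
  rfl

/-- The composite valuation ring. -/
noncomputable abbrev W : ValuationSubring ↑(Z.residueField T.z) := composite T.V T.R₁

theorem exists_base (φ₀ : Spec (CommRingCat.of ↥R₀) ⟶ X)
    (hφ₀ : Spec.map (CommRingCat.ofHom R₀.subtype) ≫ φ₀ = Y.fromSpecResidueField y ≫ f) :
    ∃ φW : Spec (CommRingCat.of ↥T.W) ⟶ X,
      Spec.map (CommRingCat.ofHom T.W.subtype) ≫ φW = Z.fromSpecResidueField T.z ≫ h ≫ f ∧
      Spec.map (CommRingCat.ofHom (compIncl T.V T.R₁)) ≫ φW = T.e ≫ f ∧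
      Spec.map (CommRingCat.ofHom (compProj T.V T.R₁)) ≫ φW =
        Spec.map (CommRingCat.ofHom T.ρ₁) ≫ φ₀ := by
  obtain ⟨φW, ⟨h1, -, h3, h4⟩, -⟩ := existsUnique_glue (terminal.from X) _ T.W T.V
    (composite_le T.V T.R₁) (compIncl T.V T.R₁) (fun _ => rfl)
    (Z.fromSpecResidueField T.z ≫ h ≫ f) (terminal.from _) (terminal.hom_ext _ _) (T.e ≫ f)
    (by rw [← Category.assoc, T.he, Category.assoc]) T.R₁ (compProj T.V T.R₁)
    (compProj_surjective T.V T.R₁) (fun _ => rfl) (Spec.map (CommRingCat.ofHom T.ρ₁) ≫ φ₀)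
    (by rw [T.sub_ρ₁, hφ₀, ← Category.assoc, ← T.hg₁, Category.assoc]) (terminal.hom_ext _ _)
  exact ⟨φW, h1, h3, h4⟩

theorem exists_lift (φW : Spec (CommRingCat.of ↥T.W) ⟶ X)
    (hW : Spec.map (CommRingCat.ofHom T.W.subtype) ≫ φW = Z.fromSpecResidueField T.z ≫ h ≫ f)
    (l₀ : Spec (CommRingCat.of ↥R₀) ⟶ Y)
    (hl : Spec.map (CommRingCat.ofHom R₀.subtype) ≫ l₀ = Y.fromSpecResidueField y)
    (hlW : Spec.map (CommRingCat.ofHom (compProj T.V T.R₁)) ≫ φW =
      Spec.map (CommRingCat.ofHom T.ρ₁) ≫ l₀ ≫ f) :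
    ∃ lW : Spec (CommRingCat.of ↥T.W) ⟶ Y,
      Spec.map (CommRingCat.ofHom T.W.subtype) ≫ lW = Z.fromSpecResidueField T.z ≫ h ∧
      lW ≫ f = φW ∧
      Spec.map (CommRingCat.ofHom (compProj T.V T.R₁)) ≫ lW =
        Spec.map (CommRingCat.ofHom T.ρ₁) ≫ l₀ := by
  obtain ⟨lW, ⟨h1, h2, -, h4⟩, -⟩ := existsUnique_glue f _ T.W T.V (composite_le T.V T.R₁)
    (compIncl T.V T.R₁) (fun _ => rfl) (Z.fromSpecResidueField T.z ≫ h) φW
    (by rw [hW, Category.assoc]) T.e T.he T.R₁ (compProj T.V T.R₁)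
    (compProj_surjective T.V T.R₁) (fun _ => rfl) (Spec.map (CommRingCat.ofHom T.ρ₁) ≫ l₀)
    (by rw [T.sub_ρ₁, hl, ← T.hg₁]) (by rw [hlW, Category.assoc])
  exact ⟨lW, h1, h2, h4⟩

theorem descend (l₁ : Spec (CommRingCat.of ↥T.R₁) ⟶ Y)
    (hl : Spec.map (CommRingCat.ofHom T.R₁.subtype) ≫ l₁ = Spec.map T.g₁ ≫ Y.fromSpecResidueField y) :
    ∃ l₀ : Spec (CommRingCat.of ↥R₀) ⟶ Y,
      Spec.map (CommRingCat.ofHom R₀.subtype) ≫ l₀ = Y.fromSpecResidueField y ∧
      Spec.map (CommRingCat.ofHom T.ρ₁) ≫ l₀ = l₁ := by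
  obtain ⟨z, V, e, g₁, R₁, hR₁, he, hg₁⟩ := T
  subst hR₁
  obtain ⟨l₀, ⟨h1, h2⟩, -⟩ := existsUnique_factor (𝟙 Y) _ R₁ (Spec.map g₁ ≫ Y.fromSpecResidueField y)
    l₁ (by rw [hl, Category.comp_id]) y g₁ rfl (restrictHom R₁ g₁.hom) fun _ => rfl
  exact ⟨l₀, h2.trans (Category.comp_id _), h1⟩

end Test

/-- Uniqueness through the points of `Z`. -/
def CritUniq : Prop :=
  ∀ (z : Z) (R : ValuationSubring ↑(Z.residueField z)) (φ : Spec (CommRingCat.of ↥R) ⟶ X),
    Spec.map (CommRingCat.ofHom R.subtype) ≫ φ = Z.fromSpecResidueField z ≫ h ≫ f →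
    ∀ φ₁ φ₂ : Spec (CommRingCat.of ↥R) ⟶ Y,
      Spec.map (CommRingCat.ofHom R.subtype) ≫ φ₁ = Z.fromSpecResidueField z ≫ h → φ₁ ≫ f = φ →
      Spec.map (CommRingCat.ofHom R.subtype) ≫ φ₂ = Z.fromSpecResidueField z ≫ h → φ₂ ≫ f = φ →
      φ₁ = φ₂

/-- Existence and uniqueness through the points of `Z`. -/
def CritLift : Prop :=
  ∀ (z : Z) (R : ValuationSubring ↑(Z.residueField z)) (φ : Spec (CommRingCat.of ↥R) ⟶ X),
    Spec.map (CommRingCat.ofHom R.subtype) ≫ φ = Z.fromSpecResidueField z ≫ h ≫ f →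
    ∃! φ' : Spec (CommRingCat.of ↥R) ⟶ Y,
      Spec.map (CommRingCat.ofHom R.subtype) ≫ φ' = Z.fromSpecResidueField z ≫ h ∧ φ' ≫ f = φ

theorem CritLift.uniq {h : Z ⟶ Y} {f : Y ⟶ X} (H : CritLift h f) : CritUniq h f :=
  fun z R φ hφ _ _ a b c d => (H z R φ hφ).unique ⟨a, b⟩ ⟨c, d⟩

theorem eq_lifts_of_crit [QuasiCompact h] (hd : DenseRange h.base) (H : CritUniq h f)
    {K : Type u} [Field K] (R : ValuationSubring K) {l₁ l₂ : Spec (CommRingCat.of ↥R) ⟶ Y}
    (h₁ : Spec.map (CommRingCat.ofHom R.subtype) ≫ l₁ = Spec.map (CommRingCat.ofHom R.subtype) ≫ l₂)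
    (h₂ : l₁ ≫ f = l₂ ≫ f) : l₁ = l₂ := by
  set i := Spec.map (CommRingCat.ofHom R.subtype) ≫ l₁
  obtain ⟨y, g, hg⟩ : ∃ (y : Y) (g : Y.residueField y ⟶ CommRingCat.of K),
      Spec.map g ≫ Y.fromSpecResidueField y = i :=
    ⟨_, _, (Scheme.SpecToEquivOfField K Y).left_inv i⟩
  have := isLocalHom_restrict R g.hom (restrictHom R g.hom) fun _ => rfl
  have hfac : ∀ l : Spec (CommRingCat.of ↥R) ⟶ Y, Spec.map (CommRingCat.ofHom R.subtype) ≫ l = i →
      ∃ l₀, Spec.map (CommRingCat.ofHom (R.comap g.hom).subtype) ≫ l₀ = Y.fromSpecResidueField y ∧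
        Spec.map (CommRingCat.ofHom (restrictHom R g.hom)) ≫ l₀ = l := fun l hl => by
    obtain ⟨l₀, ⟨a, b⟩, -⟩ := existsUnique_factor (𝟙 Y) K R i l (by rw [hl, Category.comp_id]) y g hg
      (restrictHom R g.hom) fun _ => rfl
    exact ⟨l₀, b.trans (Category.comp_id _), a⟩
  obtain ⟨m₁, hm₁, hm₁'⟩ := hfac l₁ rfl
  obtain ⟨m₂, hm₂, hm₂'⟩ := hfac l₂ h₁.symm
  have hmf : m₁ ≫ f = m₂ ≫ f :=
    eq_of_closedPoint (restrictHom R g.hom) (restrict_injective R g.hom _ fun _ => rfl)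
      (by rw [← comp_closedPoint (restrictHom R g.hom) (m₁ ≫ f), ← Category.assoc, hm₁', h₂, ← hm₂',
        Category.assoc, comp_closedPoint])
      (by rw [← Category.assoc, hm₁', h₂, ← hm₂', Category.assoc])
  obtain ⟨T⟩ := exists_test h hd y (R.comap g.hom)
  obtain ⟨φW, hW, -, hWσ⟩ := T.exists_base f (m₁ ≫ f) (by rw [← Category.assoc, hm₁])
  obtain ⟨n₁, a₁, b₁, c₁⟩ := T.exists_lift f φW hW m₁ hm₁ hWσ
  obtain ⟨n₂, a₂, b₂, c₂⟩ := T.exists_lift f φW hW m₂ hm₂ (by rw [hWσ, hmf])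
  have hn : n₁ = n₂ := H _ T.W φW hW n₁ n₂ a₁ b₁ a₂ b₂
  subst hn
  have := T.ρ₁_isLocalHom
  have hm : m₁ = m₂ := eq_of_closedPoint T.ρ₁ T.ρ₁_injective
    (by rw [← comp_closedPoint T.ρ₁ m₁, ← c₁, c₂, comp_closedPoint]) (c₁.symm.trans c₂)
  rw [← hm₁', ← hm₂', hm]

theorem exists_lift_of_crit [QuasiCompact h] [IsSeparated f] (hd : DenseRange h.base)
    (H : CritLift h f) {K : Type u} [Field K] (R : ValuationSubring K)
    (i : Spec (CommRingCat.of K) ⟶ Y) (φ : Spec (CommRingCat.of ↥R) ⟶ X)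
    (w : Spec.map (CommRingCat.ofHom R.subtype) ≫ φ = i ≫ f) :
    ∃ l, Spec.map (CommRingCat.ofHom R.subtype) ≫ l = i ∧ l ≫ f = φ := by
  obtain ⟨y, g, hg⟩ : ∃ (y : Y) (g : Y.residueField y ⟶ CommRingCat.of K),
      Spec.map g ≫ Y.fromSpecResidueField y = i :=
    ⟨_, _, (Scheme.SpecToEquivOfField K Y).left_inv i⟩
  obtain ⟨φ₀, ⟨ha, hb⟩, -⟩ := existsUnique_factor f K R i φ w y g hg (restrictHom R g.hom) fun _ => rfl
  obtain ⟨T⟩ := exists_test h hd y (R.comap g.hom)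
  obtain ⟨φW, hW, hWι, hWσ⟩ := T.exists_base f φ₀ hb
  obtain ⟨lW, ⟨hlW, hlWf⟩, -⟩ := H _ T.W φW hW
  have hι : Spec.map (CommRingCat.ofHom (compIncl T.V T.R₁)) ≫ lW = T.e := by
    let S : ValuativeCommSq f :=
      { R := ↥T.V, K := ↑(Z.residueField T.z), i₁ := Z.fromSpecResidueField T.z ≫ h, i₂ := T.e ≫ f,
        commSq := ⟨by
          rw [← Category.assoc]
          exact congrArg (· ≫ f) T.he.symm⟩ }
    have := IsSeparated.valuativeCriterion f S
    exact congrArg CommSq.LiftStruct.l (Subsingleton.elim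
      (⟨_, by
        change Spec.map (CommRingCat.ofHom T.V.subtype) ≫
          Spec.map (CommRingCat.ofHom (compIncl T.V T.R₁)) ≫ lW = _
        rw [← Spec.map_comp_assoc]
        exact hlW, by
        change (Spec.map (CommRingCat.ofHom (compIncl T.V T.R₁)) ≫ lW) ≫ f = T.e ≫ f
        rw [Category.assoc, hlWf, hWι]⟩ : S.commSq.LiftStruct)
      (⟨T.e, T.he, rfl⟩ : S.commSq.LiftStruct))
  obtain ⟨l₀, hl₀, hl₀'⟩ := T.descend (Spec.map (CommRingCat.ofHom (compProj T.V T.R₁)) ≫ lW) (by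
    rw [← T.hg₁, ← hι, ← Spec.map_comp_assoc, ← Spec.map_comp_assoc]
    rfl)
  have := T.ρ₁_isLocalHom
  have e0 : Spec.map (CommRingCat.ofHom T.ρ₁) ≫ l₀ ≫ f = Spec.map (CommRingCat.ofHom T.ρ₁) ≫ φ₀ := by
    rw [← Category.assoc, hl₀', Category.assoc, hlWf, hWσ]
  have hf₀ : l₀ ≫ f = φ₀ := eq_of_closedPoint T.ρ₁ T.ρ₁_injective
    (by rw [← comp_closedPoint T.ρ₁ (l₀ ≫ f), e0, comp_closedPoint]) e0
  refine ⟨Spec.map (CommRingCat.ofHom (restrictHom R g.hom)) ≫ l₀, ?_, ?_⟩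
  · rw [← hg, ← hl₀, ← Spec.map_comp_assoc, ← Spec.map_comp_assoc]
    rfl
  · rw [Category.assoc, hf₀, ha]

section Convert

variable {R K : Type u} [CommRing R] [IsDomain R] [ValuationRing R] [Field K] [Algebra R K]
  [IsFractionRing R K]

variable (R K) in
/-- The image of a valuation ring in its fraction field. -/
def rangeVal : ValuationSubring K :=
  ValuationSubring.ofSubring (algebraMap R K).range fun x => by
    rcases ValuationRing.isInteger_or_isInteger R x with h | h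
    · exact Or.inl h
    · exact Or.inr h

variable (R K) in
theorem exists_rangeVal_iso : ∃ e : CommRingCat.of R ≅ CommRingCat.of ↥(rangeVal R K),
    e.hom ≫ CommRingCat.ofHom (rangeVal R K).subtype = CommRingCat.ofHom (algebraMap R K) := by
  have hb : Function.Bijective (algebraMap R K).rangeRestrict :=
    ⟨fun a b e => IsFractionRing.injective R K (congrArg Subtype.val e),
      RingHom.rangeRestrict_surjective _⟩
  exact ⟨(RingEquiv.ofBijective _ hb).toCommRingCatIso, rfl⟩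

end Convert

theorem isSeparated_of_crit [QuasiCompact h] [QuasiSeparated f] (hd : DenseRange h.base)
    (H : CritUniq h f) : IsSeparated f := by
  refine IsSeparated.of_valuativeCriterion f fun S => ⟨fun a b => ?_⟩
  obtain ⟨e, he⟩ := exists_rangeVal_iso S.R S.K
  have key : ∀ l : S.commSq.LiftStruct, Spec.map (CommRingCat.ofHom (rangeVal S.R S.K).subtype) ≫
      Spec.map e.hom ≫ l.l = S.i₁ := fun l => by
    rw [← Spec.map_comp_assoc, he, l.fac_left]
  have := eq_lifts_of_crit h f hd H (rangeVal S.R S.K) (l₁ := Spec.map e.hom ≫ a.l)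
    (l₂ := Spec.map e.hom ≫ b.l) ((key a).trans (key b).symm)
    (by rw [Category.assoc, Category.assoc, a.fac_right, b.fac_right])
  exact CommSq.LiftStruct.ext ((cancel_epi (Spec.map e.hom)).mp this)

theorem isSeparated_iff_critUniq [QuasiCompact h] [QuasiSeparated f] (hd : DenseRange h.base) :
    IsSeparated f ↔ CritUniq h f := by
  refine ⟨fun _ z R φ hφ φ₁ φ₂ a b c d => ?_, isSeparated_of_crit h f hd⟩
  let S : ValuativeCommSq f :=
    { R := ↥R, K := ↑(Z.residueField z), i₁ := Z.fromSpecResidueField z ≫ h, i₂ := φ,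
      commSq := ⟨by rw [Category.assoc]; exact hφ.symm⟩ }
  have := IsSeparated.valuativeCriterion f S
  exact congrArg CommSq.LiftStruct.l
    (Subsingleton.elim (⟨φ₁, a, b⟩ : S.commSq.LiftStruct) ⟨φ₂, c, d⟩)

theorem isProper_iff_critLift [QuasiCompact h] [QuasiCompact f] [QuasiSeparated f]
    [LocallyOfFiniteType f] (hd : DenseRange h.base) : IsProper f ↔ CritLift h f := by
  constructor
  · intro hp z R φ hφ
    rw [IsProper.eq_valuativeCriterion] at hp
    let S : ValuativeCommSq f :=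
      { R := ↥R, K := ↑(Z.residueField z), i₁ := Z.fromSpecResidueField z ≫ h, i₂ := φ,
        commSq := ⟨by rw [Category.assoc]; exact hφ.symm⟩ }
    obtain ⟨u⟩ := hp.1.1.1 S
    refine ⟨u.default.l, ⟨u.default.fac_left, u.default.fac_right⟩, fun φ' h' => ?_⟩
    exact congrArg CommSq.LiftStruct.l (u.uniq (⟨φ', h'.1, h'.2⟩ : S.commSq.LiftStruct))
  · intro H
    have := isSeparated_of_crit h f hd H.uniq
    refine IsProper.of_valuativeCriterion f (ValuativeCriterion.iff.mpr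
      ⟨fun S => ?_, IsSeparated.valuativeCriterion f⟩)
    obtain ⟨e, he⟩ := exists_rangeVal_iso S.R S.K
    obtain ⟨l, hl₁, hl₂⟩ := exists_lift_of_crit h f hd H (rangeVal S.R S.K) S.i₁
      (Spec.map e.hom ≫ S.i₂) (by rw [← Spec.map_comp_assoc, he, S.commSq.w])
    refine ⟨⟨⟨Spec.map e.inv ≫ l, ?_, ?_⟩⟩⟩
    · rw [← hl₁, ← Spec.map_comp_assoc, ← he, Iso.inv_hom_id_assoc]
    · rw [Category.assoc, hl₂, ← Spec.map_comp_assoc, Iso.hom_inv_id, Spec.map_id, Category.id_comp]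

end Groth.ValCritAux
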